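import Cfsg.Agent.H470.EPK.Comb
import Cfsg.Agent.H459.RgdRad

/-!
# Overgroups of unipotent radicals lie in parabolic subgroups (helper470, for S5745, task 5927)

`R : RGD cs h p T n X`, connected diagram, `K < Y` containing a conjugate of `V_J`, `J ≠ univ`.

* `exists_PJ` : `V_L^g ≤ K ≤ P_L^g` for some `L ≠ univ`;
* `exists_canon` : a subgroup `K` with a nontrivial normal `p`-subgroup lies in a proper parabolic subgroup fixed by all
  automorphisms fixing `K` (from Borel–Tits);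
* `par_of_VJ` : (K).
-/

set_option autoImplicit false
set_option linter.unusedSectionVars false

namespace Cfsg.Agent.H470.EPK

open CoxeterSystem Cfsg.Agent.ChevalleyStructure.CoxeterGeom Cfsg.Agent.Tits.Roots Cfsg.Agent.Tits.Core
  Cfsg.Agent.Tits.RootComb Cfsg.Agent.Tits.Exchange Cfsg.Agent.Nodes.Reps Cfsg.Agent.Nodes.BNOf
  Cfsg.Agent.Nodes.StabComb Cfsg.Agent.Nodes.Bruhat Cfsg.Agent.Nodes.OppDec Cfsg.Agent.Nodes.LeviDec
  Cfsg.Agent.Nodes.Coroot Cfsg.Agent.KFacts.RgdPar Cfsg.Agent.KFacts.RgdSL Cfsg.Agent.KFacts.RgdVJ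
  Cfsg.Agent.KFacts.RgdCharP

variable {I W Y : Type*} [Fintype I] [DecidableEq I] [Group W] [Group Y] {M : CoxeterMatrix I}
  {cs : CoxeterSystem M W} {A : I → I → ℤ} {h : IsCartan M A} {p : ℕ} {T : Subgroup Y} {n : I → Y}
  {X : (I → ℤ) → Subgroup Y}

/-- `J` is minimal with `V_J ≤ K` up to conjugacy -/
def Mn (cs : CoxeterSystem M W) (h : IsCartan M A) (X : (I → ℤ) → Subgroup Y) (K : Subgroup Y) (J : Set I) : Prop :=
  ∀ J' ⊆ J, ∀ g : Y, cj g (VJ cs h X J') ≤ K → J' = J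

theorem Mn.cj' {K : Subgroup Y} {J : Set I} (hm : Mn cs h X K J) (g : Y) : Mn cs h X (cj g K) J := by
  intro J' hJ' g' h1
  refine hm J' hJ' (g⁻¹ * g') ?_
  rw [cj_mul]
  have := cj_mono g⁻¹ h1
  rwa [cj_inv_cj] at this

theorem NotJ_anti {J L : Set I} (hJL : J ⊆ L) : NotJ cs h L ⊆ NotJ cs h J := by
  rintro x ⟨h1, h2, k, hk, hk0⟩
  exact ⟨h1, h2, k, fun h3 => hk (hJL h3), hk0⟩

theorem VJ_anti {J L : Set I} (hJL : J ⊆ L) : VJ cs h X L ≤ VJ cs h X J := RGD.Sup_mono (NotJ_anti hJL)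

theorem NotJ_empty : NotJ cs h (∅ : Set I) = RGD.Pos cs h := by
  ext x
  constructor
  · rintro ⟨h1, h2, -⟩
    exact ⟨h1, h2⟩
  · rintro ⟨h1, h2⟩
    refine ⟨h1, h2, ?_⟩
    by_contra hcon
    push Not at hcon
    exact h1.ne_zero (le_antisymm (fun k => hcon k (Set.notMem_empty k)) h2)

theorem PJ_mono {J L : Set I} (hJL : J ⊆ L) : PJ cs h T X J ≤ PJ cs h T X L :=
  sup_le ((LJ_mono hJL).trans LJ_le_PJ) ((VJ_le_B J).trans B_le_PJ)

variable (R : RGD cs h p T n X)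

include R

theorem VJ_le_of_red {K : Subgroup Y} {J : Set I} {w : W} {m : Y} (hm : Rp cs R.nsys w m)
    (h1 : VJ cs h X J ≤ K) (h2 : cj m (VJ cs h X J) ≤ K) (hw : ∀ i ∈ J, 0 ≤ rep cs h w⁻¹ (sr i)) :
    VJ cs h X {j | j ∈ J ∧ rep cs h w⁻¹ (sr j) ∈ RootsJ cs h J} ≤ K := by
  refine RGD.Sup_le fun γ hγ => ?_
  obtain ⟨hγr, hγ0, k, hk, hk0⟩ := hγ
  rcases mem_PosJ_or_NotJ J hγr hγ0 with h3 | h3
  · have hkJ : k ∈ J := by
      by_contra h4
      rw [h3.2.2 k h4] at hk0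
      exact lt_irrefl _ hk0
    have hk' : rep cs h w⁻¹ (sr k) ∉ RootsJ cs h J := fun h4 => hk ⟨hkJ, h4⟩
    obtain ⟨r, hr, hr0⟩ : ∃ r, r ∉ J ∧ rep cs h w⁻¹ (sr k) r ≠ 0 := by
      by_contra hcon
      push Not at hcon
      exact hk' ⟨(isRoot_sr cs h k).act _, hcon⟩
    have hr1 : 0 < rep cs h w⁻¹ (sr k) r := lt_of_le_of_ne (hw k hkJ r) (Ne.symm hr0)
    have h5 : 0 < rep cs h w⁻¹ γ r := by
      rw [rep_coord]
      refine Finset.sum_pos' (fun j _ => ?_) ⟨k, Finset.mem_univ _, mul_pos hk0 hr1⟩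
      by_cases hj : j ∈ J
      · exact mul_nonneg (hγ0 j) (hw j hj r)
      · rw [h3.2.2 j hj, zero_mul]
    have h6 : rep cs h w⁻¹ γ ∈ NotJ cs h J := ⟨hγr.act _, nonneg_of_pos_apply (hγr.act _) h5, r, hr, h5⟩
    refine le_trans ?_ h2
    have h7 := cj_mono m (RGD.le_Sup (X := X) h6)
    rw [R.conj_rp hm (hγr.act _), rep_apply_inv] at h7
    exact h7
  · exact (RGD.le_Sup h3).trans h1

/-- the reduced form of `k ∈ K` -/
theorem pack [Finite W] {K : Subgroup Y} {J : Set I} (hV : VJ cs h X J ≤ K) (hmin : Mn cs h X K J) {k : Y}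
    (hk : k ∈ K) {w : W} (hc : Cell R.nsys cs h X w k) :
    ∃ (w₁ u u' : W) (m₁ g g' : Y), u ∈ WJ cs J ∧ u' ∈ WJ cs J ∧ w₁ = u * w * u' ∧ Rp cs R.nsys w₁ m₁ ∧
      g ∈ PJ cs h T X J ∧ g' ∈ PJ cs h T X J ∧ k = g * m₁ * g' ∧ (∀ i ∈ J, 0 ≤ rep cs h w₁⁻¹ (sr i)) ∧
      VJ cs h X J ≤ cj g⁻¹ K ∧ cj m₁ (VJ cs h X J) ≤ cj g⁻¹ K ∧
      (∀ x ∈ RootsJ cs h J, rep cs h w₁ x ∈ RootsJ cs h J) ∧
      ∀ x ∈ RootsJ cs h J, rep cs h w₁⁻¹ x ∈ RootsJ cs h J := by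
  obtain ⟨b, hb, m, hm, b', hb', rfl⟩ := hc
  obtain ⟨u, hu, u', hu', h1, h2⟩ := exists_red (cs := cs) (h := h) J _ w rfl
  obtain ⟨a, ha⟩ := exists_rp cs R.nsys u
  obtain ⟨a', ha'⟩ := exists_rp cs R.nsys u'
  have hm1 : Rp cs R.nsys (u * w * u') (a * m * a') := (ha.mul hm).mul ha'
  have hg : b * a⁻¹ ∈ PJ cs h T X J := mul_mem (B_le_PJ hb) (inv_mem (LJ_le_PJ (rp_mem_LJ R hu ha)))
  have hg' : a'⁻¹ * b' ∈ PJ cs h T X J := mul_mem (inv_mem (LJ_le_PJ (rp_mem_LJ R hu' ha'))) (B_le_PJ hb')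
  have hcj : ∀ y ∈ PJ cs h T X J, cj y (VJ cs h X J) = VJ cs h X J := fun y hy =>
    mem_normalizer_iff_cj.1 (PJ_le_normalizer_VJ R J hy)
  have e : b * m * b' = (b * a⁻¹) * (a * m * a') * (a'⁻¹ * b') := by group
  have hV1 : VJ cs h X J ≤ cj (b * a⁻¹)⁻¹ K := by
    have h3 := cj_mono (b * a⁻¹)⁻¹ hV
    rwa [hcj _ (inv_mem hg)] at h3
  have hV2 : cj (a * m * a') (VJ cs h X J) ≤ cj (b * a⁻¹)⁻¹ K := by
    have h3 : cj (b * m * b') (VJ cs h X J) ≤ K := by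
      have h4 := cj_mono (b * m * b') hV
      rwa [cj_eq_of_mem hk] at h4
    rw [e, cj_mul, cj_mul, hcj _ hg'] at h3
    have h4 := cj_mono (b * a⁻¹)⁻¹ h3
    rwa [cj_inv_cj] at h4
  have h3 := VJ_le_of_red R hm1 hV1 hV2 h2
  have h4 := (hmin.cj' (b * a⁻¹)⁻¹) {j | j ∈ J ∧ rep cs h (u * w * u')⁻¹ (sr j) ∈ RootsJ cs h J}
    (fun j hj => hj.1) 1 (by rwa [cj_one])
  have h5 : ∀ j ∈ J, rep cs h (u * w * u')⁻¹ (sr j) ∈ RootsJ cs h J := by
    intro j hj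
    rw [← h4] at hj
    exact hj.2
  have h6 : ∀ x ∈ RootsJ cs h J, rep cs h (u * w * u')⁻¹ x ∈ RootsJ cs h J := fun x hx => preserve h5 hx
  have h7 : ∀ x ∈ RootsJ cs h J, rep cs h (u * w * u') x ∈ RootsJ cs h J := fun x hx => by
    have := preserve_inv h6 hx
    rwa [inv_inv] at this
  exact ⟨u * w * u', u, u', a * m * a', b * a⁻¹, a'⁻¹ * b', hu, hu', rfl, hm1, hg, hg', e, h2, hV1, hV2, h7, h6⟩

/-- elements of `K` stabilise `Φ_J` -/
theorem stab [Finite W] {K : Subgroup Y} {J : Set I} (hV : VJ cs h X J ≤ K) (hmin : Mn cs h X K J) {k : Y}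
    (hk : k ∈ K) {w : W} (hc : Cell R.nsys cs h X w k) {x : I → ℤ} (hx : x ∈ RootsJ cs h J) :
    rep cs h w x ∈ RootsJ cs h J := by
  obtain ⟨w₁, u, u', m₁, g, g', hu, hu', e, -, -, -, -, -, -, -, h7, -⟩ := pack R hV hmin hk hc
  have e2 : w = u⁻¹ * w₁ * u'⁻¹ := by rw [e]; group
  rw [e2, rep_mul_apply, rep_mul_apply]
  exact RootsJ.act (inv_mem hu) (h7 _ (RootsJ.act (inv_mem hu') hx))

theorem orth_of_neg [Finite W] {K : Subgroup Y} {J : Set I} (hV : VJ cs h X J ≤ K) (hmin : Mn cs h X K J) {w : W}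
    {m : Y} (hm : Rp cs R.nsys w m) (h2 : cj m (VJ cs h X J) ≤ K) (hwi : ∀ i ∈ J, 0 ≤ rep cs h w⁻¹ (sr i))
    (hp : ∀ x ∈ RootsJ cs h J, rep cs h w x ∈ RootsJ cs h J) {γ : I → ℤ} (hγ : IsRoot cs h γ) (hγ0 : 0 ≤ γ)
    (hγn : rep cs h w⁻¹ γ ≤ 0) : ∀ j ∈ J, pairing A j γ = 0 := by
  have hN : γ ∈ NotJ cs h J := by
    rcases mem_PosJ_or_NotJ J hγ hγ0 with h3 | h3
    · exfalso
      exact (hγ.act w⁻¹).not_pos_neg (nonneg_of_PosJ hwi hγ0 h3.2.2) hγn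
    · exact h3
  obtain ⟨-, -, k, hk, hk0⟩ := hN
  have hγ' : IsRoot cs h (-rep cs h w⁻¹ γ) := (hγ.act w⁻¹).neg
  have hN' : -rep cs h w⁻¹ γ ∈ NotJ cs h J := by
    rcases mem_PosJ_or_NotJ J hγ' (neg_nonneg.2 hγn) with h3 | h3
    · exfalso
      have h4 := hp _ (PosJ_subset J h3)
      rw [map_neg, rep_apply_inv] at h4
      have h5 := h4.2 k hk
      rw [Pi.neg_apply] at h5
      omega
    · exact h3
  have hX1 : X γ ≤ K := (RGD.le_Sup (S := NotJ cs h J) ⟨hγ, hγ0, k, hk, hk0⟩).trans hV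
  have hX2 : X (-γ) ≤ K := by
    refine le_trans ?_ h2
    have h7 := cj_mono m (RGD.le_Sup (X := X) hN')
    rw [R.conj_rp hm hγ', map_neg, rep_apply_inv] at h7
    exact h7
  obtain ⟨u, hu, hu1⟩ : ∃ u ∈ X γ, u ≠ 1 := by
    by_contra hcon
    push Not at hcon
    exact X_ne_bot R hγ ((Subgroup.eq_bot_iff_forall _).2 hcon)
  obtain ⟨s, hs, a, ha, b, hb, m', hm', e⟩ := exists_mu R hγ hu hu1
  have hmK : m' ∈ K := by
    rw [e]
    exact mul_mem (mul_mem (hX2 ha) (hX1 hu)) (hX2 hb)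
  intro j hj
  have h8 := stab R hV hmin hmK (cell_of_rp hm') (PosJ_subset J (sr_mem_PosJ (cs := cs) (h := h) hj))
  have h9 := h8.2 k hk
  rw [hs, Pi.sub_apply, Pi.smul_apply, sr_ne (by rintro rfl; exact hk hj), smul_eq_mul, zero_sub, neg_eq_zero] at h9
  have h10 : cpr cs h (sr j) γ = 0 := (mul_eq_zero.1 h9).resolve_right hk0.ne'
  rw [cpr_zero_comm cs h (isRoot_sr cs h j) hγ, cpr_sr] at h10
  exact h10

theorem le_PJ [Finite W] (hG : GG cs h T X = ⊤) {K : Subgroup Y} {J : Set I} (hV : VJ cs h X J ≤ K)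
    (hmin : Mn cs h X K J) : K ≤ PJ cs h T X (J ∪ Orth A J) := by
  intro k hk
  obtain ⟨w, hc⟩ := (mem_GG R).1 (show k ∈ GG cs h T X by rw [hG]; trivial)
  obtain ⟨w₁, u, u', m₁, g, g', hu, hu', e, hm₁, hg, hg', e2, hwi, hV1, hV2, h7, -⟩ := pack R hV hmin hk hc
  have h1 : w₁ ∈ WJ cs (Orth A J) := mem_orth _ w₁ rfl fun γ hγ hγ0 hγn =>
    orth_of_neg R hV1 (hmin.cj' _) hm₁ hV2 hwi h7 hγ hγ0 hγn
  rw [e2]
  exact mul_mem (mul_mem (PJ_mono Set.subset_union_left hg)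
    (LJ_le_PJ (rp_mem_LJ R (WJ_mono cs Set.subset_union_right h1) hm₁))) (PJ_mono Set.subset_union_left hg')

/-! ### `J = ∅` -/

theorem exists_rep_simple {K : Subgroup Y} {i : I} (h1 : X (sr i) ≤ K) (h2 : X (-sr i) ≤ K) :
    ∃ m ∈ K, Rp cs R.nsys (cs.simple i) m := by
  obtain ⟨u, hu, hu1⟩ : ∃ u ∈ X (-sr i), u ≠ 1 := by
    by_contra hcon
    push Not at hcon
    exact X_ne_bot R (isRoot_sr cs h i).neg ((Subgroup.eq_bot_iff_forall _).2 hcon)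
  obtain ⟨a, ha, t, ht, b, hb, e⟩ := R.rk1 i u hu hu1
  refine ⟨t * n i, ?_, ?_⟩
  · have : t * n i = a⁻¹ * u * b⁻¹ := by rw [e]; group
    rw [this]
    exact mul_mem (mul_mem (inv_mem (h1 ha)) (h2 hu)) (inv_mem (h1 hb))
  · have := (rp_of_mem (cs := cs) (hN := R.nsys) ht).mul (rp_simple cs R.nsys i)
    rwa [one_mul] at this

theorem le_PJ_empty [Finite W] (hG : GG cs h T X = ⊤) {K : Subgroup Y} (hV : RGD.Sup X (RGD.Pos cs h) ≤ K) :
    K ≤ PJ cs h T X {i | X (-sr i) ≤ K} := by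
  have hXp : ∀ x, IsRoot cs h x → 0 ≤ x → X x ≤ K := fun x hx h0 => (RGD.le_Sup (S := RGD.Pos cs h) ⟨hx, h0⟩).trans hV
  have key : ∀ (k : ℕ) (w : W) (m : Y), cs.length w = k → Rp cs R.nsys w m → m ∈ K →
      w ∈ WJ cs {i | X (-sr i) ≤ K} := by
    intro k
    induction k using Nat.strong_induction_on with
    | _ k ih =>
      intro w m hw hm hmK
      by_cases h1 : w = 1
      · rw [h1]; exact one_mem _
      have h0 : w⁻¹ ≠ 1 := fun h2 => h1 (inv_eq_one.1 h2)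
      obtain ⟨i, hi⟩ := cs.exists_rightDescent_of_ne_one h0
      have h2 : cs.length (w⁻¹ * cs.simple i) < cs.length w⁻¹ := hi
      have h3 : rep cs h w⁻¹ (sr i) ≤ 0 := (lt_iff cs h w⁻¹ i).1 h2
      have h4 : X (-sr i) ≤ K := by
        have h5 : IsRoot cs h (-rep cs h w⁻¹ (sr i)) := ((isRoot_sr cs h i).act w⁻¹).neg
        have h6 := cj_mono m (hXp _ h5 (neg_nonneg.2 h3))
        rw [R.conj_rp hm h5, map_neg, rep_apply_inv, cj_eq_of_mem hmK] at h6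
        exact h6
      obtain ⟨m', hm'K, hm'⟩ := exists_rep_simple R (hXp _ (isRoot_sr cs h i) (sr_nonneg i)) h4
      have h5 : cs.length (cs.simple i * w) < k := by
        have e1 : cs.simple i * w = (w⁻¹ * cs.simple i)⁻¹ := by rw [mul_inv_rev, inv_inv, cs.inv_simple]
        rw [e1, cs.length_inv, ← hw, ← cs.length_inv w]
        exact h2
      have h6 := ih _ h5 (cs.simple i * w) (m' * m) rfl (hm'.mul hm) (mul_mem hm'K hmK)
      have e2 : w = cs.simple i * (cs.simple i * w) := by rw [← mul_assoc, cs.simple_mul_simple_self, one_mul]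
      rw [e2]
      exact mul_mem (simple_mem_WJ cs h4) h6
  intro k hk
  obtain ⟨w, hc⟩ := (mem_GG R).1 (show k ∈ GG cs h T X by rw [hG]; trivial)
  rw [cell_mem_PJ_iff R hc]
  obtain ⟨b, hb, m, hm, b', hb', rfl⟩ := hc
  obtain ⟨t, ht, u, hu, rfl⟩ := R.mem_B.1 hb
  obtain ⟨t', ht', u', hu', rfl⟩ := R.mem_B.1 hb'
  have hRp : Rp cs R.nsys w (t * m * t') := by
    have := ((rp_of_mem (cs := cs) (hN := R.nsys) ht).mul hm).mul_mem_right ht'
    rwa [one_mul] at this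
  refine key _ w (t * m * t') rfl hRp ?_
  have h1 : t * u * t⁻¹ ∈ RGD.Sup X (RGD.Pos cs h) :=
    (Subgroup.mem_normalizer_iff.1 (R.T_le_normalizer_U ht) u).1 hu
  have e : t * m * t' = (t * u * t⁻¹)⁻¹ * (t * u * m * (t' * u')) * u'⁻¹ := by group
  rw [e]
  exact mul_mem (mul_mem (inv_mem (hV h1)) hk) (inv_mem (hV hu'))

theorem ne_univ_of_ne_top (hX : RGD.Sup X {x | IsRoot cs h x} = ⊤) {K : Subgroup Y} (hK : K ≠ ⊤)
    (hV : RGD.Sup X (RGD.Pos cs h) ≤ K) : {i | X (-sr i) ≤ K} ≠ Set.univ := by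
  intro hu
  have hXp : ∀ x, IsRoot cs h x → 0 ≤ x → X x ≤ K := fun x hx h0 => (RGD.le_Sup (S := RGD.Pos cs h) ⟨hx, h0⟩).trans hV
  apply hK
  rw [eq_top_iff, ← hX]
  have key : ∀ ω : List I, ∃ m ∈ K, Rp cs R.nsys (cs.wordProd ω) m := by
    intro ω
    induction ω with
    | nil => exact ⟨1, one_mem _, by rw [wordProd_nil]; exact rp_one⟩
    | cons i ω ih =>
      obtain ⟨m, hmK, hm⟩ := ih
      obtain ⟨m', hm'K, hm'⟩ := exists_rep_simple R (hXp _ (isRoot_sr cs h i) (sr_nonneg i))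
        (show X (-sr i) ≤ K by have : i ∈ {i | X (-sr i) ≤ K} := by rw [hu]; trivial
                               exact this)
      exact ⟨m' * m, mul_mem hm'K hmK, by rw [wordProd_cons]; exact hm'.mul hm⟩
  refine RGD.Sup_le ?_
  rintro x ⟨w, i, rfl⟩
  obtain ⟨ω, rfl⟩ := cs.wordProd_surjective w
  obtain ⟨m, hmK, hm⟩ := key ω
  have h1 := cj_mono m (hXp _ (isRoot_sr cs h i) (sr_nonneg i))
  rwa [R.conj_rp hm (isRoot_sr cs h i), cj_eq_of_mem hmK] at h1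

/-- **overgroups of unipotent radicals lie in parabolic subgroups** -/
theorem exists_PJ [Finite W] (hG : GG cs h T X = ⊤) (hX : RGD.Sup X {x | IsRoot cs h x} = ⊤) (hconn : Conn M)
    {K : Subgroup Y} (hK : K ≠ ⊤) {J : Set I} (hJ : J ≠ Set.univ) {g : Y} (hV : cj g (VJ cs h X J) ≤ K) :
    ∃ (L : Set I) (g' : Y), L ≠ Set.univ ∧ K ≤ cj g' (PJ cs h T X L) ∧ cj g' (VJ cs h X L) ≤ K := by
  classical
  obtain ⟨J₀, ⟨hJ₀, g₀, hV₀⟩, hmin⟩ := Set.exists_min_image {J' : Set I | J' ⊆ J ∧ ∃ g, cj g (VJ cs h X J') ≤ K}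
    (fun J' => J'.ncard) (Set.toFinite _) ⟨J, le_refl _, g, hV⟩
  have hMn : Mn cs h X K J₀ := by
    intro J' hJ' g' h1
    exact Set.eq_of_subset_of_ncard_le hJ' (hmin J' ⟨hJ'.trans hJ₀, g', h1⟩) (Set.toFinite _)
  set K' := cj g₀⁻¹ K with hK'
  have hMn' : Mn cs h X K' J₀ := hMn.cj' _
  have hV' : VJ cs h X J₀ ≤ K' := by
    have := cj_mono g₀⁻¹ hV₀
    rwa [cj_inv_cj] at this
  have hKK' : cj g₀ K' = K := by rw [hK', cj_cj_inv]
  have hK'top : K' ≠ ⊤ := by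
    intro h1
    apply hK
    rw [← hKK', h1]
    exact Subgroup.map_top_of_surjective _ (MulAut.conj g₀).surjective
  suffices h1 : ∃ L : Set I, L ≠ Set.univ ∧ K' ≤ PJ cs h T X L ∧ VJ cs h X L ≤ K' by
    obtain ⟨L, h2, h3, h4⟩ := h1
    refine ⟨L, g₀, h2, ?_, ?_⟩
    · rw [← hKK']; exact cj_mono _ h3
    · rw [← hKK']; exact cj_mono _ h4
  by_cases h0 : J₀ = ∅
  · have hU : RGD.Sup X (RGD.Pos cs h) ≤ K' := by
      rw [← NotJ_empty, ← h0]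
      exact hV'
    refine ⟨{i | X (-sr i) ≤ K'}, ne_univ_of_ne_top R hX hK'top hU, le_PJ_empty R hG hU, ?_⟩
    refine le_trans (VJ_anti (Set.empty_subset _)) ?_
    rw [← h0]
    exact hV'
  · refine ⟨J₀ ∪ Orth A J₀, ?_, le_PJ R hG hV' hMn', (VJ_anti Set.subset_union_left).trans hV'⟩
    obtain ⟨a, ha, b, hb, hM⟩ := hconn J₀ (Set.nonempty_iff_ne_empty.2 h0) (fun h1 => hJ (Set.eq_univ_of_univ_subset (h1 ▸ hJ₀)))
    intro hu
    have hbu : b ∈ J₀ ∪ Orth A J₀ := by rw [hu]; trivial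
    rcases hbu with h1 | h1
    · exact hb h1
    · have h2 := h1 a ha
      have hab : a ≠ b := by rintro rfl; exact hb ha
      have h3 := cartan_neg (h := h) hab hM
      omega

/-! ### The canonical parabolic subgroup -/

omit R in
theorem iv_normalizer [Finite Y] {x : MulAut Y} {Q : Subgroup Y} (hx : H459.Gallery.Iv x Q) :
    H459.Gallery.Iv x (Subgroup.normalizer (Q : Set Y)) := by
  intro g hg
  have h1 := hx.map_eq
  rw [Subgroup.mem_normalizer_iff_map_conj_eq] at hg ⊢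
  have h2 : (Q.map (MulAut.conj g).toMonoidHom).map x.toMonoidHom =
      (Q.map x.toMonoidHom).map (MulAut.conj (x g)).toMonoidHom := by
    rw [Subgroup.map_map, Subgroup.map_map]
    congr 1
    ext k
    simp
  have hg' : Q.map (MulAut.conj g).toMonoidHom = Q := hg
  rw [hg', h1] at h2
  exact h2.symm

/-- a subgroup with a nontrivial normal `p`-subgroup lies in a canonical proper parabolic subgroup -/
theorem exists_canon [Finite W] [Finite Y] [Fact p.Prime] (hBT : BT cs h p T X) {K N₀ : Subgroup Y}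
    (hN : N₀ ≤ K) (hn : ∀ k ∈ K, ∀ v ∈ N₀, k * v * k⁻¹ ∈ N₀) (hp : IsPGroup p N₀) (h1 : N₀ ≠ ⊥) :
    ∃ (J' : Set I) (g' : Y), J' ≠ Set.univ ∧ K ≤ cj g' (PJ cs h T X J') ∧
      ∀ φ : MulAut Y, (∀ k ∈ K, φ k ∈ K) → ∀ x ∈ cj g' (PJ cs h T X J'), φ x ∈ cj g' (PJ cs h T X J') := by
  classical
  -- `O_p(K)`
  have hO : ∀ {N A : Subgroup Y}, A ≤ N → (∀ g ∈ N, ∀ a ∈ A, g * a * g⁻¹ ∈ A) → IsPGroup p A →
      A ≤ (pCore p ↥N).map N.subtype := by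
    intro N A hAN hn hA
    have hAn : (A.subgroupOf N).Normal := by
      refine ⟨fun a ha g => ?_⟩
      rw [Subgroup.mem_subgroupOf] at ha ⊢
      exact hn g g.2 a ha
    have h1 := Lib.Cores.le_pCore hAn (hA.comap_subtype (K := N))
    have h2 := Subgroup.map_mono (f := N.subtype) h1
    rwa [Subgroup.subgroupOf_map_subtype, inf_eq_left.2 hAN] at h2
  obtain ⟨Q, ⟨hQ1, hQ2, hQ3⟩, hmax⟩ := Set.exists_max_image {Q : Subgroup Y | Q ≠ ⊥ ∧ IsPGroup p Q ∧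
      ∀ φ : MulAut Y, H459.Gallery.Iv φ K → H459.Gallery.Iv φ Q}
    (fun Q => Nat.card Q) (Set.toFinite _) ⟨(pCore p ↥K).map K.subtype, fun h2 => h1 (le_bot_iff.1 (h2 ▸ hO hN hn hp)),
      (Lib.Cores.pCore_isPGroup (G := K) p).map _, fun φ hφ => H459.RgdRad.iv_core hφ⟩
  set N := Subgroup.normalizer (Q : Set Y) with hNd
  have hNφ : ∀ φ : MulAut Y, H459.Gallery.Iv φ K → H459.Gallery.Iv φ N := fun φ hφ => iv_normalizer (hQ3 φ hφ)
  have hQN : Q ≤ N := Subgroup.le_normalizer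
  have hQO : Q ≤ (pCore p ↥N).map N.subtype :=
    hO hQN (fun g hg a ha => (Subgroup.mem_normalizer_iff.1 hg a).1 ha) hQ2
  have hOQ : (pCore p ↥N).map N.subtype = Q := by
    refine (Subgroup.eq_of_le_of_card_ge hQO (hmax _ ⟨fun h2 => hQ1 (le_bot_iff.1 (h2 ▸ hQO)),
      (Lib.Cores.pCore_isPGroup (G := N) p).map _, fun φ hφ => H459.RgdRad.iv_core (hNφ φ hφ)⟩)).symm
  obtain ⟨g, J, hJ, h3, h4⟩ := hBT Q hQ2 hQ1
  set V := cj g (VJ cs h X J) with hV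
  have hVp : IsPGroup p V := (isPGroup_VJ R J).map _
  have hPV : cj g (PJ cs h T X J) ≤ Subgroup.normalizer (V : Set Y) := by
    rintro _ ⟨a, ha, rfl⟩
    have h5 : cj a (VJ cs h X J) = VJ cs h X J := mem_normalizer_iff_cj.1 (PJ_le_normalizer_VJ R J ha)
    rw [mem_normalizer_iff_cj, hV]
    show cj (g * a * g⁻¹) (cj g (VJ cs h X J)) = _
    rw [← cj_mul, inv_mul_cancel_right, cj_mul, h5]
  have hVQ : V = Q := by
    by_contra hne
    have h5 := SmallSimple.SylowMaxInter.lt_inf_normalizer hVp (lt_of_le_of_ne h3 (Ne.symm hne))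
    have h6 : V ⊓ N ≤ Q := by
      rw [← hOQ]
      refine hO inf_le_right (fun k hk v hv => ⟨?_, N.mul_mem (N.mul_mem hk hv.2) (N.inv_mem hk)⟩)
        (hVp.to_le inf_le_left)
      exact (Subgroup.mem_normalizer_iff.1 (hPV (h4 hk)) v).1 hv.1
    exact lt_irrefl _ (lt_of_lt_of_le h5 h6)
  have hNP : N = cj g (PJ cs h T X J) := le_antisymm h4 (by rw [hNd, ← hVQ]; exact hPV)
  refine ⟨J, g, hJ, ?_, ?_⟩
  · rw [← hNP]
    intro k hk
    have h5 : H459.Gallery.Iv (MulAut.conj k) Q := hQ3 _ fun a ha => mul_mem (mul_mem hk ha) (inv_mem hk)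
    exact mem_normalizer_iff_cj.2 h5.map_eq
  · intro φ hφ
    rw [← hNP]
    exact hNφ φ hφ

/-- **(K)** -/
theorem par_of_VJ [Finite W] [Finite Y] [Fact p.Prime] (hBT : BT cs h p T X) (hG : GG cs h T X = ⊤)
    (hX : RGD.Sup X {x | IsRoot cs h x} = ⊤) (hconn : Conn M) {K : Subgroup Y} (hK : K ≠ ⊤) {J : Set I}
    (hJ : J ≠ Set.univ) {g : Y} (hV : cj g (VJ cs h X J) ≤ K) :
    ∃ (J' : Set I) (g' : Y), J' ≠ Set.univ ∧ K ≤ cj g' (PJ cs h T X J') ∧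
      ∀ φ : MulAut Y, (∀ k ∈ K, φ k ∈ K) →
        ∀ x ∈ cj g' (PJ cs h T X J'), φ x ∈ cj g' (PJ cs h T X J') := by
  obtain ⟨L, g', hL, h1, h2⟩ := exists_PJ R hG hX hconn hK hJ hV
  refine exists_canon R hBT h2 (fun k hk v hv => ?_) ((isPGroup_VJ R L).map _) ?_
  · obtain ⟨a, ha, rfl⟩ := h1 hk
    obtain ⟨b, hb, rfl⟩ := hv
    refine ⟨a * b * a⁻¹, (Subgroup.mem_normalizer_iff.1 (PJ_le_normalizer_VJ R L ha) b).1 hb, ?_⟩
    simp [mul_assoc]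
  · intro h3
    obtain ⟨i, hi⟩ : ∃ i, i ∉ L := by
      by_contra hcon
      push Not at hcon
      exact hL (Set.eq_univ_of_forall hcon)
    have h4 : X (sr i) ≤ VJ cs h X L := RGD.le_Sup (sr_mem_NotJ hi)
    have h5 : VJ cs h X L = ⊥ := by
      rw [← cj_inv_cj g' (VJ cs h X L), h3]
      exact Subgroup.map_bot _
    exact X_ne_bot R (isRoot_sr cs h i) (le_bot_iff.1 (h5 ▸ h4))

end Cfsg.Agent.H470.EPK
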