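import Cfsg.Agent.KFacts.RgdVJ
import Cfsg.Agent.KFacts.RgdSL

/-!
# Overgroups of unipotent radicals: combinatorics (helper470, for S5745)

* `exists_red` : `W_J w W_J` contains `w₁` with `w₁ (J) > 0`, `w₁⁻¹ (J) > 0`;
* `preserve` : elements mapping the simple roots of `J` into `Φ_J` stabilise `Φ_J`;
* `mem_orth` : `w ∈ W_{J^⊥}` if all positive roots made negative by `w⁻¹` are orthogonal to `J`.
-/

set_option autoImplicit false
set_option linter.unusedSectionVars false

namespace Cfsg.Agent.H470.EPK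

open CoxeterSystem Cfsg.Agent.ChevalleyStructure.CoxeterGeom Cfsg.Agent.Tits.Roots Cfsg.Agent.Tits.Core
  Cfsg.Agent.Tits.RootComb Cfsg.Agent.Tits.Exchange Cfsg.Agent.Nodes.Reps Cfsg.Agent.Nodes.BNOf
  Cfsg.Agent.Nodes.StabComb Cfsg.Agent.Nodes.Bruhat Cfsg.Agent.Nodes.OppDec Cfsg.Agent.Nodes.LeviDec
  Cfsg.Agent.Nodes.Coroot Cfsg.Agent.KFacts.RgdPar Cfsg.Agent.KFacts.RgdSL Cfsg.Agent.KFacts.RgdVJ

variable {I W : Type*} [Fintype I] [DecidableEq I] [Group W] {M : CoxeterMatrix I}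
  {cs : CoxeterSystem M W} {A : I → I → ℤ} {h : IsCartan M A}

theorem exists_red (J : Set I) : ∀ (k : ℕ) (w : W), cs.length w = k → ∃ u ∈ WJ cs J, ∃ u' ∈ WJ cs J,
    (∀ i ∈ J, 0 ≤ rep cs h (u * w * u') (sr i)) ∧ ∀ i ∈ J, 0 ≤ rep cs h (u * w * u')⁻¹ (sr i) := by
  intro k
  induction k using Nat.strong_induction_on with
  | _ k ih =>
    intro w hw
    by_cases h1 : ∀ i ∈ J, 0 ≤ rep cs h w (sr i)
    · by_cases h2 : ∀ i ∈ J, 0 ≤ rep cs h w⁻¹ (sr i)
      · exact ⟨1, one_mem _, 1, one_mem _, by simpa using h1, by simpa using h2⟩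
      · push Not at h2
        obtain ⟨i, hi, h3⟩ := h2
        have h4 : cs.length (w⁻¹ * cs.simple i) < cs.length w⁻¹ := by
          rw [lt_iff cs h]
          exact ((nonneg_or_nonpos cs h w⁻¹ i).resolve_left h3)
        have h5 : cs.length (cs.simple i * w) < k := by
          have e1 : cs.simple i * w = (w⁻¹ * cs.simple i)⁻¹ := by rw [mul_inv_rev, inv_inv, cs.inv_simple]
          rw [e1, cs.length_inv, ← hw, ← cs.length_inv w]
          exact h4
        obtain ⟨u, hu, u', hu', h6, h7⟩ := ih _ h5 (cs.simple i * w) rfl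
        refine ⟨u * cs.simple i, mul_mem hu (simple_mem_WJ cs hi), u', hu', ?_, ?_⟩
        · rwa [mul_assoc u]
        · rwa [mul_assoc u]
    · push Not at h1
      obtain ⟨i, hi, h3⟩ := h1
      have h4 : cs.length (w * cs.simple i) < k := by
        rw [← hw, lt_iff cs h]
        exact ((nonneg_or_nonpos cs h w i).resolve_left h3)
      obtain ⟨u, hu, u', hu', h6, h7⟩ := ih _ h4 (w * cs.simple i) rfl
      refine ⟨u, hu, cs.simple i * u', mul_mem (simple_mem_WJ cs hi) hu', ?_, ?_⟩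
      · rwa [show u * w * (cs.simple i * u') = u * (w * cs.simple i) * u' by group]
      · rwa [show u * w * (cs.simple i * u') = u * (w * cs.simple i) * u' by group]

/-- coordinates of `v x` -/
theorem rep_coord (v : W) (x : I → ℤ) (r : I) : rep cs h v x r = ∑ k, x k * rep cs h v (sr k) r := by
  have := map_eq_sum (pull cs h (Pi.evalAddMonoidHom (fun _ => ℤ) r) v) x
  exact this

theorem preserve {J : Set I} {v : W} (hv : ∀ j ∈ J, rep cs h v (sr j) ∈ RootsJ cs h J) {x : I → ℤ}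
    (hx : x ∈ RootsJ cs h J) : rep cs h v x ∈ RootsJ cs h J := by
  refine ⟨hx.1.act v, fun k hk => ?_⟩
  rw [rep_coord]
  refine Finset.sum_eq_zero fun j _ => ?_
  by_cases hj : j ∈ J
  · rw [(hv j hj).2 k hk, mul_zero]
  · rw [hx.2 j hj, zero_mul]

theorem preserve_inv [Finite W] {J : Set I} {v : W} (hv : ∀ x ∈ RootsJ cs h J, rep cs h v x ∈ RootsJ cs h J)
    {x : I → ℤ} (hx : x ∈ RootsJ cs h J) : rep cs h v⁻¹ x ∈ RootsJ cs h J := by
  have h1 : ∀ (k : ℕ), ∀ x ∈ RootsJ cs h J, rep cs h (v ^ k) x ∈ RootsJ cs h J := by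
    intro k
    induction k with
    | zero => intro x hx; simpa using hx
    | succ k ih =>
      intro x hx
      rw [pow_succ, rep_mul_apply]
      exact ih _ (hv x hx)
  have h2 : v⁻¹ = v ^ (orderOf v - 1) := by
    rw [inv_eq_iff_mul_eq_one, ← pow_succ', Nat.sub_add_cancel (orderOf_pos v), pow_orderOf_eq_one]
  rw [h2]
  exact h1 _ x hx

/-- nonnegative combinations -/
theorem nonneg_of_PosJ {J : Set I} {v : W} (hv : ∀ j ∈ J, 0 ≤ rep cs h v (sr j)) {x : I → ℤ} (hx0 : 0 ≤ x)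
    (hx : ∀ k, k ∉ J → x k = 0) : 0 ≤ rep cs h v x := by
  intro r
  rw [rep_coord]
  refine Finset.sum_nonneg fun k _ => ?_
  by_cases hk : k ∈ J
  · exact mul_nonneg (hx0 k) (hv k hk r)
  · rw [hx k hk, zero_mul]

/-- the nodes orthogonal to `J` -/
def Orth (A : I → I → ℤ) (J : Set I) : Set I := {i | ∀ j ∈ J, A j i = 0}

theorem mem_orth {J : Set I} : ∀ (k : ℕ) (w : W), cs.length w = k →
    (∀ γ, IsRoot cs h γ → 0 ≤ γ → rep cs h w⁻¹ γ ≤ 0 → ∀ j ∈ J, pairing A j γ = 0) → w ∈ WJ cs (Orth A J) := by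
  intro k
  induction k using Nat.strong_induction_on with
  | _ k ih =>
    intro w hw hr
    by_cases h1 : w = 1
    · rw [h1]; exact one_mem _
    have h0 : w⁻¹ ≠ 1 := fun h2 => h1 (inv_eq_one.1 h2)
    obtain ⟨i, hi⟩ := cs.exists_rightDescent_of_ne_one h0
    have h2 : cs.length (w⁻¹ * cs.simple i) < cs.length w⁻¹ := hi
    have h3 : rep cs h w⁻¹ (sr i) ≤ 0 := (lt_iff cs h w⁻¹ i).1 h2
    have hsi := hr (sr i) (isRoot_sr cs h i) (sr_nonneg i) h3
    have hiO : i ∈ Orth A J := fun j hj => by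
      rw [← pairing_sr0 (A := A) j i]
      exact hsi j hj
    have h5 : cs.length (cs.simple i * w) < k := by
      have e1 : cs.simple i * w = (w⁻¹ * cs.simple i)⁻¹ := by rw [mul_inv_rev, inv_inv, cs.inv_simple]
      rw [e1, cs.length_inv, ← hw, ← cs.length_inv w]
      exact h2
    have h6 := ih _ h5 (cs.simple i * w) rfl (by
      intro γ hγ hγ0 hγn j hj
      have e1 : (cs.simple i * w)⁻¹ = w⁻¹ * cs.simple i := by rw [mul_inv_rev, cs.inv_simple]
      rw [e1, rep_mul_apply] at hγn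
      by_cases hne : γ = sr i
      · exfalso
        rw [hne, rep_simple_sr, map_neg] at hγn
        exact ((isRoot_sr cs h i).act w⁻¹).not_pos_neg (neg_nonpos.1 hγn) h3
      · have h7 : 0 ≤ rep cs h (cs.simple i) γ := hγ.simple_nonneg hγ0 i hne
        have h8 := hr _ (hγ.act (cs.simple i)) h7 hγn j hj
        rw [rep_simple_eq, sub_eq_add_neg, ← neg_smul, pairing_add, pairing_smul, hsi j hj, mul_zero, add_zero] at h8
        exact h8)
    have e2 : w = cs.simple i * (cs.simple i * w) := by rw [← mul_assoc, cs.simple_mul_simple_self, one_mul]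
    rw [e2]
    exact mul_mem (simple_mem_WJ cs hiO) h6

end Cfsg.Agent.H470.EPK
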